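import Cfsg.Agent.Lib.CompLength.Basic

/-!
Composition length and orbits: the reduction to smaller degree.
-/

set_option autoImplicit false

universe u v

namespace CfsgLib.CompLength

open MulAction
open scoped Pointwise

/-- The bound `4/3 (n - #orbits)` in all degrees below `n`. -/
def BoundBelow (n : ℕ) : Prop :=
  ∀ (X : Type v) [Finite X] (P : Subgroup (Equiv.Perm X)), Nat.card X < n →
    LenLE P (4 * (Nat.card X - Nat.card (orbitRel.Quotient P X)))

theorem card_le_card_quotient {H : Type*} {X : Type*} [Group H] [MulAction H X] [Finite X] {Y : Type*}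
    (φ : X → Y) (hs : Function.Surjective φ) (hφ : ∀ (h : H) x, φ (h • x) = φ x) :
    Nat.card Y ≤ Nat.card (orbitRel.Quotient H X) := by
  refine Nat.card_le_card_of_surjective (Quotient.lift φ ?_) fun y => ?_
  · rintro x x' hxx
    obtain ⟨h, rfl⟩ : x ∈ orbit H x' := hxx
    exact hφ h x'
  · obtain ⟨x, rfl⟩ := hs y
    exact ⟨Quotient.mk (orbitRel H X) x, rfl⟩

variable {n : ℕ}

/-- An action of smaller degree with at least `#Y` orbits. -/
theorem lenLE_range (ih : BoundBelow.{v} n) {X : Type v} [Finite X] (hX : Nat.card X < n) {H : Type*}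
    [Group H] (f : H →* Equiv.Perm X) {Y : Type*} (φ : X → Y) (hs : Function.Surjective φ)
    (hφ : ∀ h x, φ (f h x) = φ x) : LenLE f.range (4 * (Nat.card X - Nat.card Y)) := by
  refine (ih X f.range hX).mono (Nat.mul_le_mul_left 4 (Nat.sub_le_sub_left ?_ _))
  refine card_le_card_quotient φ hs fun g x => ?_
  obtain ⟨h, hh⟩ := g.2
  show φ ((g : Equiv.Perm X) x) = φ x
  rw [← hh]
  exact hφ h x

/-- An action of smaller degree. -/
theorem lenLE_range_one (ih : BoundBelow.{v} n) {X : Type v} [Finite X] [Nonempty X] (hX : Nat.card X < n)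
    {H : Type*} [Group H] (f : H →* Equiv.Perm X) : LenLE f.range (4 * (Nat.card X - 1)) := by
  have := lenLE_range ih hX f (fun _ => Unit.unit) (fun _ => ⟨Classical.arbitrary X, rfl⟩)
    fun _ _ => rfl
  simpa using this

variable {H : Type*} [Group H] {Ω : Type v} [MulAction H Ω]

/-- An invariant set, as an action. -/
def subAct (s : Set Ω) (hs : ∀ (h : H), ∀ x ∈ s, h • x ∈ s) : SubMulAction H Ω :=
  ⟨s, fun h _ hx => hs h _ hx⟩

/-- Several orbits: reduce to smaller degree. -/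
theorem lenLE_many_orbits [Finite Ω] [FaithfulSMul H Ω] (ih : BoundBelow.{v} n) (hn : Nat.card Ω = n)
    {Y : Type*} (φ : Ω → Y) (hs : Function.Surjective φ) (hφ : ∀ (h : H) x, φ (h • x) = φ x)
    (hY : 2 ≤ Nat.card Y) : LenLE H (4 * (n - Nat.card Y)) := by
  classical
  haveI : Finite Y := Finite.of_surjective φ hs
  obtain ⟨y₀⟩ : Nonempty Y := (Nat.card_pos_iff.1 (by omega : 0 < Nat.card Y)).1
  obtain ⟨x₀, hx₀⟩ := hs y₀
  let O := subAct (H := H) (orbit H x₀) fun h x hx => mem_orbit_of_mem_orbit h hx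
  let O' := subAct (H := H) (orbit H x₀)ᶜ fun h x hx hhx => hx (by simpa using mem_orbit_of_mem_orbit h⁻¹ hhx)
  let f : H →* Equiv.Perm O := toPermHom H O
  let g : f.ker →* Equiv.Perm O' := (toPermHom H O').comp f.ker.subtype
  have hmem : ∀ x, x ∈ O ↔ x ∈ orbit H x₀ := fun x => Iff.rfl
  have hmem' : ∀ x, x ∈ O' ↔ x ∉ orbit H x₀ := fun x => Iff.rfl
  have hO1 : 0 < Nat.card O :=
    Nat.card_pos_iff.2 ⟨⟨⟨x₀, (hmem x₀).2 (mem_orbit_self x₀)⟩⟩, inferInstance⟩
  have hsum : Nat.card O + Nat.card O' = n := by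
    rw [← hn]
    exact (Set.ncard_add_ncard_compl (orbit H x₀) (Set.toFinite _) (Set.toFinite _) :)
  have hOφ : ∀ x ∈ orbit H x₀, φ x = y₀ := by
    rintro _ ⟨h, rfl⟩
    exact (hφ h x₀).trans hx₀
  obtain ⟨y₁, hy₁⟩ : ∃ y₁, y₁ ≠ y₀ := by
    haveI : Nontrivial Y := Finite.one_lt_card_iff_nontrivial.1 (by omega)
    exact exists_ne y₀
  obtain ⟨x₁, hx₁⟩ := hs y₁
  have hx₁O : x₁ ∈ O' := fun hx => hy₁ (hx₁ ▸ hOφ x₁ hx)
  have hO'1 : 0 < Nat.card O' := Nat.card_pos_iff.2 ⟨⟨⟨x₁, hx₁O⟩⟩, inferInstance⟩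
  haveI : Nonempty O := ⟨⟨x₀, (hmem x₀).2 (mem_orbit_self x₀)⟩⟩
  have hrange := lenLE_range_one ih (by omega) f
  -- the kernel is faithful on the complement and has one orbit for each other value of `φ`
  let ψ : O' → {y : Y // y ≠ y₀} := fun x => if h : φ x.1 = y₀ then ⟨y₁, hy₁⟩ else ⟨φ x.1, h⟩
  have hψs : Function.Surjective ψ := by
    rintro ⟨y, hy⟩
    obtain ⟨x, rfl⟩ := hs y
    refine ⟨⟨x, (hmem' x).2 fun hx => hy (hOφ x hx)⟩, ?_⟩
    simp only [ψ]
    rw [dif_neg hy]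
  have hψi : ∀ k x, ψ (g k x) = ψ x := fun k x => by
    have he : φ (g k x).1 = φ x.1 := hφ (k : H) x.1
    simp only [ψ, he]
  have hker := lenLE_range ih (by omega) g ψ hψs hψi
  have hginj : Function.Injective g := by
    refine (injective_iff_map_eq_one g).2 fun k hk => Subtype.ext (FaithfulSMul.eq_of_smul_eq_smul fun x : Ω => ?_)
    rw [OneMemClass.coe_one, one_smul]
    by_cases hx : x ∈ orbit H x₀
    · exact congrArg Subtype.val (DFunLike.congr_fun (MonoidHom.mem_ker.1 k.2) ⟨x, (hmem x).2 hx⟩)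
    · exact congrArg Subtype.val (DFunLike.congr_fun hk ⟨x, (hmem' x).2 hx⟩)
  have htot := LenLE.add_hom f (hker.of_equiv (MonoidHom.ofInjective hginj).symm) hrange
  refine htot.mono ?_
  have hY' : Nat.card {y : Y // y ≠ y₀} = Nat.card Y - 1 := by
    haveI := Fintype.ofFinite Y
    rw [Nat.card_eq_fintype_card, Nat.card_eq_fintype_card, Fintype.card_subtype_compl,
      Fintype.card_subtype_eq]
  have hle : Nat.card {y : Y // y ≠ y₀} ≤ Nat.card O' := Nat.card_le_card_of_surjective ψ hψs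
  rw [hY'] at hle ⊢
  omega

/-- The imprimitive case. -/
theorem lenLE_imprimitive [Finite Ω] [FaithfulSMul H Ω] [IsPretransitive H Ω] [Nontrivial Ω]
    (ih : BoundBelow.{v} n) (hn : Nat.card Ω = n) (hnp : ¬ IsPreprimitive H Ω) :
    LenLE H (4 * (n - 1)) := by
  classical
  obtain ⟨B, hB, hBt⟩ : ∃ B : Set Ω, IsBlock H B ∧ ¬ IsTrivialBlock B := by
    by_contra hc
    push Not at hc
    exact hnp { isTrivialBlock_of_isBlock := fun {B} hB => hc B hB }
  obtain ⟨hsub, huniv⟩ := not_or.1 hBt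
  rw [Set.not_subsingleton_iff] at hsub
  obtain ⟨x₀, hx₀⟩ := hsub.nonempty
  have hmul := IsBlock.ncard_block_mul_ncard_orbit_eq hB ⟨x₀, hx₀⟩
  have hb2 : 2 ≤ B.ncard := (Set.one_lt_ncard (Set.toFinite _)).2
    (by obtain ⟨a, ha, b, hb, hne⟩ := hsub; exact ⟨a, ha, b, hb, hne⟩)
  set a := Nat.card (orbit H B) with ha
  have ha' : (orbit H B).ncard = a := (Nat.card_coe_set_eq _).symm
  rw [ha', hn] at hmul
  have ha2 : 2 ≤ a := by
    have hlt : B.ncard < n := by
      rw [← hn]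
      exact lt_of_lt_of_le (Set.ncard_lt_ncard (lt_top_iff_ne_top.2 huniv) (Set.toFinite _))
        (le_of_eq (Set.ncard_univ Ω))
    by_contra hlt2
    have : a = 0 ∨ a = 1 := by omega
    rcases this with h | h <;> rw [h] at hmul
    · simp only [mul_zero] at hmul
      omega
    · omega
  have han : a < n := by nlinarith
  haveI : Nonempty (orbit H B) := ⟨⟨B, mem_orbit_self B⟩⟩
  let f : H →* Equiv.Perm (orbit H B) := toPermHom H (orbit H B)
  have hrange := lenLE_range_one ih (by rw [← ha]; exact han) f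
  have hcover : ∀ x, ∃ X : orbit H B, x ∈ (X : Set Ω) := fun x => by
    obtain ⟨g, rfl⟩ := exists_smul_eq H x₀ x
    exact ⟨⟨g • B, mem_orbit B g⟩, Set.smul_mem_smul_set hx₀⟩
  choose φ hφ using hcover
  have huniq : ∀ (X X' : orbit H B) x, x ∈ (X : Set Ω) → x ∈ (X' : Set Ω) → X = X' := by
    rintro ⟨_, g, rfl⟩ ⟨_, g', rfl⟩ x hx hx'
    refine Subtype.ext ?_
    by_contra hne
    exact Set.disjoint_left.1 (hB hne) hx hx'
  have hψs : Function.Surjective φ := by
    rintro ⟨_, g, rfl⟩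
    exact ⟨g • x₀, huniq _ _ _ (hφ _) (Set.smul_mem_smul_set hx₀)⟩
  have hψi : ∀ (k : f.ker) x, φ (k • x) = φ x := fun k x => by
    have hk : (k : H) • φ x = φ x := DFunLike.congr_fun (MonoidHom.mem_ker.1 k.2) (φ x)
    refine huniq _ _ _ (hφ _) ?_
    rw [← hk]
    exact Set.smul_mem_smul_set (hφ x)
  have hker := lenLE_many_orbits ih hn φ hψs hψi (by rw [← ha]; exact ha2)
  refine (LenLE.add_hom f hker hrange).mono ?_
  rw [← ha]
  omega

end CfsgLib.CompLength
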