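import Cfsg.Agent.Lib.CompLength.Basic

/-!
The numerical estimates used for the composition length of a permutation group.
-/

set_option autoImplicit false

namespace CfsgLib.CompLength

open scoped ArithmeticFunction.Omega

theorem sq_succ_le_two_pow {e : ℕ} (he : 5 ≤ e) : 3 * (e + 1) * (e + 1) ≤ 4 * 2 ^ e := by
  induction e, he using Nat.le_induction with
  | base => norm_num
  | succ e he ih =>
    rw [pow_succ]
    nlinarith

theorem six_mul_le_two_pow {e : ℕ} (he : 6 ≤ e) : 6 * e ≤ 2 ^ e := by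
  induction e, he using Nat.le_induction with
  | base => norm_num
  | succ e he ih =>
    rw [pow_succ]
    omega

theorem cardFactors_five : Ω 5 = 1 := ArithmeticFunction.cardFactors_apply_prime (by norm_num)

theorem cardFactors_nine : Ω 9 = 2 := by
  rw [show (9 : ℕ) = 3 ^ 2 by norm_num, ArithmeticFunction.cardFactors_apply_prime_pow Nat.prime_three]

/-- The affine estimate. -/
theorem affine_bound {n : ℕ} (hn : 2 ≤ n) :
    3 * Ω n + 3 * (Ω n * Nat.log 2 (n - 1)) ≤ 4 * (n - 1) := by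
  have hk : 2 ^ Ω n ≤ n := two_pow_cardFactors_le (by omega)
  have he1 : 2 ^ Nat.log 2 (n - 1) ≤ n - 1 := Nat.pow_log_le_self 2 (by omega)
  have he2 : n - 1 < 2 ^ (Nat.log 2 (n - 1) + 1) := Nat.lt_pow_succ_log_self one_lt_two _
  set k := Ω n with hkd
  set e := Nat.log 2 (n - 1) with hed
  have hke : k ≤ e + 1 := by
    by_contra h
    have : 2 ^ (e + 2) ≤ 2 ^ k := Nat.pow_le_pow_right two_pos (by omega)
    rw [pow_succ] at this
    omega
  rcases le_or_gt 5 e with he | he
  · have h3 := sq_succ_le_two_pow he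
    have h4 : k * (e + 1) ≤ (e + 1) * (e + 1) := Nat.mul_le_mul_right _ hke
    nlinarith
  · have hk5 : k ≤ 5 := by omega
    have hn32 : n ≤ 32 := by
      have : 2 ^ (e + 1) ≤ 2 ^ 5 := Nat.pow_le_pow_right two_pos (by omega)
      omega
    by_cases h5 : n = 5
    · have : k = 1 := by rw [hkd, h5, cardFactors_five]
      rw [this]
      interval_cases e <;> omega
    by_cases h9 : n = 9
    · have : k = 2 := by rw [hkd, h9, cardFactors_nine]
      rw [this]
      interval_cases e <;> omega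
    interval_cases k <;> interval_cases e <;> omega

theorem six_cardFactors_le {n c : ℕ} (hn : 25 ≤ n) (hc0 : c ≠ 0) (hc : c ≤ n) : 6 * Ω c ≤ n := by
  have hp := (two_pow_cardFactors_le hc0).trans hc
  rcases le_or_gt 6 (Ω c) with h | h
  · exact (six_mul_le_two_pow h).trans hp
  · rcases le_or_gt 32 n with h' | h'
    · omega
    · have : Ω c ≤ 4 := by
        by_contra h''
        have := Nat.pow_le_pow_right (n := 2) two_pos (show 5 ≤ Ω c by omega)
        omega
      omega

theorem five_pow_ge {m : ℕ} (hm : 2 ≤ m) : 8 * m ≤ 7 * 5 ^ (m - 1) := by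
  induction m, hm using Nat.le_induction with
  | base => norm_num
  | succ m hm ih =>
    rw [Nat.add_sub_cancel, show m = (m - 1) + 1 by omega, pow_succ]
    omega

theorem five_pow_ge' {m : ℕ} (hm : 3 ≤ m) : 8 * m ≤ 7 * 5 ^ (m - 2) := by
  induction m, hm using Nat.le_induction with
  | base => norm_num
  | succ m hm ih =>
    rw [show m + 1 - 2 = (m - 2) + 1 by omega, pow_succ]
    omega

theorem sq_five_pow_ge {m : ℕ} (hm : 4 ≤ m) : 64 * (m * m) ≤ 49 * 5 ^ (m - 2) := by
  induction m, hm using Nat.le_induction with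
  | base => norm_num
  | succ m hm ih =>
    rw [show m + 1 - 2 = (m - 2) + 1 by omega, pow_succ]
    nlinarith

/-- `m` commuting factors with orbits of length `d` on `n` points. -/
theorem factor_bound {n d t m j : ℕ} (hd : 5 ≤ d) (hdt : d ≤ t) (hj : 2 ≤ j) (hjm : j ≤ m)
    (h1 : 5 ^ (j - 1) * d ≤ n) (h2 : t ^ (m - j) ≤ n) : 8 * (m * d) ≤ 7 * n := by
  rcases (by omega : m - j = 0 ∨ m - j = 1 ∨ 2 ≤ m - j) with hb | hb | hb
  · obtain rfl : m = j := by omega
    have := five_pow_ge (show 2 ≤ m from hj)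
    calc 8 * (m * d) = 8 * m * d := by ring
      _ ≤ 7 * 5 ^ (m - 1) * d := Nat.mul_le_mul_right _ this
      _ = 7 * (5 ^ (m - 1) * d) := by ring
      _ ≤ 7 * n := Nat.mul_le_mul_left _ h1
  · obtain rfl : j = m - 1 := by omega
    have := five_pow_ge' (show 3 ≤ m by omega)
    calc 8 * (m * d) = 8 * m * d := by ring
      _ ≤ 7 * 5 ^ (m - 2) * d := Nat.mul_le_mul_right _ this
      _ = 7 * (5 ^ (m - 1 - 1) * d) := by rw [show m - 1 - 1 = m - 2 by omega]; ring
      _ ≤ 7 * n := Nat.mul_le_mul_left _ h1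
  · obtain ⟨b, hb'⟩ : ∃ b, m - j = b + 2 := ⟨m - j - 2, by omega⟩
    have hsq : 8 * (m * d) * (8 * (m * d)) ≤ 7 * n * (7 * n) := by
      have h3 : 64 * (m * m) ≤ 49 * 5 ^ (m - 2) := sq_five_pow_ge (by omega)
      have h4 : 5 ^ (m - 2) * (d * d) ≤ n * n := by
        calc 5 ^ (m - 2) * (d * d) = 5 ^ (j - 1) * 5 ^ (b + 1) * (d * d) := by
              rw [← pow_add, show j - 1 + (b + 1) = m - 2 by omega]
          _ ≤ 5 ^ (j - 1) * t ^ (b + 1) * (t * d) :=
              Nat.mul_le_mul (Nat.mul_le_mul_left _ (Nat.pow_le_pow_left (hd.trans hdt) _))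
                (Nat.mul_le_mul_right _ hdt)
          _ = (5 ^ (j - 1) * d) * t ^ (b + 2) := by ring
          _ ≤ n * n := Nat.mul_le_mul h1 (hb' ▸ h2)
      calc 8 * (m * d) * (8 * (m * d)) = 64 * (m * m) * (d * d) := by ring
        _ ≤ 49 * 5 ^ (m - 2) * (d * d) := Nat.mul_le_mul_right _ h3
        _ = 49 * (5 ^ (m - 2) * (d * d)) := by ring
        _ ≤ 49 * (n * n) := Nat.mul_le_mul_left _ h4
        _ = 7 * n * (7 * n) := by ring
    exact Nat.mul_self_le_mul_self_iff.1 hsq

end CfsgLib.CompLength
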