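import Cfsg.Agent.Lib.CompLength.Action
import Cfsg.Agent.Lib.CompLength.Arith
import Cfsg.Agent.Lib.Recog.PrimitiveSocle

/-!
The affine case of the composition length bound.
-/

set_option autoImplicit false

namespace CfsgLib.CompLength

open MulAction
open scoped ArithmeticFunction.Omega

variable {G X : Type*} [Group G] [Finite G] [MulAction G X] [FaithfulSMul G X] [Finite X]

/-- The order of a point stabiliser beside a regular normal subgroup. -/
theorem cardFactors_stabilizer_le {N : Subgroup G} [N.Normal] [IsPretransitive N X]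
    (hreg : Nat.card N = Nat.card X) (α : X) :
    Ω (Nat.card (stabilizer G α)) ≤ Ω (Nat.card X) * Nat.log 2 (Nat.card X - 1) := by
  classical
  set e := Nat.log 2 (Nat.card X - 1) with he
  have hinj : Function.Injective fun n : N => (n : G) • α := by
    have hsurj : Function.Surjective fun n : N => (n : G) • α := fun x => MulAction.exists_smul_eq N α x
    exact (hsurj.bijective_of_nat_card_le hreg.le).1
  suffices key : ∀ D : Subgroup G, D ≤ N → ∀ A : Subgroup G, A ≤ stabilizer G α →
      A ≤ Subgroup.centralizer (D : Set G) → Ω (Nat.card A) + Ω (Nat.card D) * e ≤ Ω (Nat.card N) * e by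
    have := key ⊥ bot_le (stabilizer G α) le_rfl (by
      intro x _
      rw [Subgroup.mem_centralizer_iff]
      rintro _ rfl
      simp)
    rw [Subgroup.card_bot, hreg] at this
    simpa using this
  intro D
  induction hm : Nat.card N - Nat.card D using Nat.strong_induction_on generalizing D with
  | _ m ih =>
    intro hD A hA hAD
    by_cases hDN : D = N
    · subst hDN
      have : A = ⊥ := (Subgroup.eq_bot_iff_forall A).2 fun x hx =>
        CfsgLib.Recog.eq_one_of_mem_centralizer (hAD hx) (hA hx)
      rw [this, Subgroup.card_bot]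
      simp
    obtain ⟨c, hcN, hcD⟩ := SetLike.exists_of_lt (lt_of_le_of_ne hD hDN)
    set x := c • α with hx
    set A' := (stabilizer A x).map A.subtype with hA'
    have hA'le : A' ≤ A := Subgroup.map_subtype_le _
    set D' := D ⊔ Subgroup.zpowers c with hD'
    have hcA' : A' ≤ Subgroup.centralizer (D' : Set G) := by
      rw [Subgroup.le_centralizer_iff]
      refine sup_le (Subgroup.le_centralizer_iff.1 (hA'le.trans hAD)) ?_
      rw [Subgroup.zpowers_le, Subgroup.mem_centralizer_iff]
      rintro _ ⟨k, hk, rfl⟩
      have hkx : (k : G) • c • α = c • α := congrArg id (mem_stabilizer_iff.1 hk)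
      have hkc : (k : G) * c * (k : G)⁻¹ ∈ N := ‹N.Normal›.conj_mem c hcN k
      have heq : (⟨(k : G) * c * (k : G)⁻¹, hkc⟩ : N) = ⟨c, hcN⟩ := hinj (by
        show ((k : G) * c * (k : G)⁻¹) • α = c • α
        rw [mul_smul, mul_smul, inv_smul_eq_iff.2 (hA k.2).symm, hkx])
      have := congrArg Subtype.val heq
      simp only at this
      calc (A.subtype k) * c = (k : G) * c := rfl
        _ = c * A.subtype k := by rw [mul_inv_eq_iff_eq_mul.1 this]; rfl
    have hD'N : D' ≤ N := sup_le hD (Subgroup.zpowers_le.2 hcN)
    have hne : D ≠ D' := fun h => hcD (h ▸ Subgroup.mem_sup_right (Subgroup.mem_zpowers c))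
    have hΩ := cardFactors_card_lt le_sup_left hne
    have hlt : Nat.card N - Nat.card D' < m := by
      rw [← hm]
      have h1 : Nat.card D < Nat.card D' :=
        Nat.lt_of_le_of_ne (Subgroup.card_le_of_le le_sup_left) fun h =>
          hne (Subgroup.eq_of_le_of_card_ge le_sup_left h.ge)
      have h2 := Subgroup.card_le_of_le hD'N
      omega
    have hrec := ih _ hlt D' rfl hD'N A' (hA'le.trans hA) hcA'
    have hcardA : Nat.card A = Nat.card A' * (orbit A x).ncard := by
      rw [hA', Subgroup.card_subtype, ← MulAction.index_stabilizer, Subgroup.card_mul_index]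
    have horb : (orbit A x).ncard ≤ Nat.card X - 1 := by
      have hα : α ∉ orbit A x := by
        rintro ⟨k, hk⟩
        change (k : G) • x = α at hk
        have h1 : x = α := by rw [← inv_smul_smul (k : G) x, hk, inv_smul_eq_iff, (hA k.2 : (k : G) • α = α)]
        have h2 : (⟨c, hcN⟩ : N) = 1 := hinj (by simpa [hx] using h1)
        exact hcD (by rw [show c = 1 from congrArg Subtype.val h2]; exact one_mem D)
      have hlt' : (orbit A x).ncard < (Set.univ : Set X).ncard :=
        Set.ncard_lt_ncard ⟨Set.subset_univ _, fun h => hα (h (Set.mem_univ α))⟩ (Set.toFinite _)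
      rw [Set.ncard_univ] at hlt'
      omega
    have horb0 : (orbit A x).ncard ≠ 0 := ((Set.ncard_pos (Set.toFinite _)).2 (nonempty_orbit x)).ne'
    have hΩorb : Ω (orbit A x).ncard ≤ e := (cardFactors_le_log horb0).trans (Nat.log_mono_right horb)
    rw [hcardA, ArithmeticFunction.cardFactors_mul Nat.card_pos.ne' horb0]
    have h3 : (Ω (Nat.card D) + 1) * e ≤ Ω (Nat.card D') * e := Nat.mul_le_mul_right e hΩ
    rw [Nat.add_one_mul] at h3
    omega

/-- A primitive group with an abelian minimal normal subgroup. -/
theorem lenLE_affine [IsPreprimitive G X] [Nontrivial X] {N : Subgroup G} [N.Normal] (hne : N ≠ ⊥)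
    (hab : IsMulCommutative N) : LenLE G (4 * (Nat.card X - 1)) := by
  haveI ht : IsPretransitive N X := CfsgLib.Recog.isPretransitive_of_normal_ne_bot N hne
  obtain ⟨α⟩ : Nonempty X := inferInstance
  have hreg : Nat.card N = Nat.card X := by
    refine Nat.card_eq_of_bijective (fun n : N => (n : G) • α) ⟨fun a b h => ?_, fun x => MulAction.exists_smul_eq N α x⟩
    refine inv_mul_eq_one.1 (Subtype.ext ?_)
    refine CfsgLib.Recog.eq_one_of_mem_centralizer (V := N) (a := α)
      (Subgroup.le_centralizer_iff_isMulCommutative.2 hab (a⁻¹ * b).2) ?_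
    change ((a : G)⁻¹ * b) • α = α
    rw [mul_smul, inv_smul_eq_iff]
    exact h.symm
  have hA : LenLE (G ⧸ N) (3 * Ω (Nat.card (stabilizer G α))) := by
    refine lenLE_cardFactors.of_surjective ((QuotientGroup.mk' N).comp (stabilizer G α).subtype) fun q => ?_
    obtain ⟨g, rfl⟩ := QuotientGroup.mk_surjective q
    obtain ⟨n, hn⟩ := MulAction.exists_smul_eq N α (g • α)
    refine ⟨⟨(n : G)⁻¹ * g, ?_⟩, ?_⟩
    · rw [mem_stabilizer_iff, mul_smul, inv_smul_eq_iff]
      exact hn.symm
    · show (((n : G)⁻¹ * g : G) : G ⧸ N) = g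
      rw [QuotientGroup.mk_mul, QuotientGroup.mk_inv, (QuotientGroup.eq_one_iff _).2 n.2, inv_one, one_mul]
  refine (LenLE.add_normal N lenLE_cardFactors hA).mono ?_
  have h1 := cardFactors_stabilizer_le hreg α
  have h2 := affine_bound (Finite.one_lt_card (α := X))
  rw [hreg]
  omega

end CfsgLib.CompLength
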