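import Mathlib

/-!
Upper bounds for the number of proper steps in subnormal series.

`LenLE G b` says that a series `H 0, …, H l = ⊤`, each term normal in the next, has at most `b / 3`
proper steps (the factor three avoids fractions in the application to permutation groups).
-/

set_option autoImplicit false

namespace CfsgLib.CompLength

open scoped ArithmeticFunction.Omega

variable {G K : Type*} [Group G] [Group K]

open Classical in
/-- Three times the number of proper steps of any subnormal series ending at `G` is at most `b`. -/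
def LenLE (G : Type*) [Group G] (b : ℕ) : Prop :=
  ∀ (l : ℕ) (H : ℕ → Subgroup G),
    (∀ i < l, H i ≤ H (i + 1) ∧ ∀ x ∈ H i, ∀ y ∈ H (i + 1), y * x * y⁻¹ ∈ H i) →
    H l = ⊤ → 3 * ((Finset.range l).filter fun i => H i ≠ H (i + 1)).card ≤ b

theorem LenLE.mono {b c : ℕ} (h : LenLE G b) (hbc : b ≤ c) : LenLE G c :=
  fun l H hH hl => (h l H hH hl).trans hbc

theorem lenLE_of_subsingleton [Subsingleton G] : LenLE G 0 := by
  classical
  intro l H _ _
  have : ∀ i, H i = H (i + 1) := fun i => Subsingleton.elim _ _
  simp [← this]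

/-- A quotient inherits every bound. -/
theorem LenLE.of_surjective {b : ℕ} (h : LenLE G b) (f : G →* K) (hf : Function.Surjective f) :
    LenLE K b := by
  classical
  intro l H hH hl
  refine le_trans (le_of_eq ?_) (h l (fun i => (H i).comap f) (fun i hi => ⟨?_, fun x hx y hy => ?_⟩)
    (by rw [hl, Subgroup.comap_top]))
  · congr 2
    exact Finset.filter_congr fun i _ => (Subgroup.comap_injective hf).ne_iff.symm
  · exact Subgroup.comap_mono (hH i hi).1
  · rw [Subgroup.mem_comap, map_mul, map_mul, map_inv]
    exact (hH i hi).2 _ hx _ hy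

theorem LenLE.of_equiv {b : ℕ} (h : LenLE G b) (e : G ≃* K) : LenLE K b :=
  h.of_surjective e.toMonoidHom e.surjective

/-- A normal subgroup inherits every bound. -/
theorem LenLE.of_normal {b : ℕ} (h : LenLE G b) (N : Subgroup G) [N.Normal] : LenLE N b := by
  classical
  intro l H hH hl
  let H' : ℕ → Subgroup G := fun i => if i ≤ l then (H i).map N.subtype else ⊤
  have h1 : ∀ i ≤ l, H' i = (H i).map N.subtype := fun i hi => if_pos hi
  have h2 : H' (l + 1) = ⊤ := if_neg (by omega)
  have h3 : H' l = N := by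
    rw [h1 l le_rfl, hl, ← MonoidHom.range_eq_map, Subgroup.range_subtype]
  refine le_trans ?_ (h (l + 1) H' ?_ h2)
  · refine Nat.mul_le_mul_left 3 (Finset.card_le_card fun i hi => ?_)
    obtain ⟨hi1, hi2⟩ := Finset.mem_filter.1 hi
    rw [Finset.mem_range] at hi1
    refine Finset.mem_filter.2 ⟨Finset.mem_range.2 (by omega), ?_⟩
    rw [h1 i hi1.le, h1 (i + 1) hi1]
    exact fun he => hi2 (Subgroup.map_injective N.subtype_injective he)
  · intro i hi
    rcases Nat.lt_or_ge i l with hl' | hl'
    · rw [h1 i hl'.le, h1 (i + 1) hl']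
      refine ⟨Subgroup.map_mono (hH i hl').1, ?_⟩
      rintro _ ⟨x, hx, rfl⟩ _ ⟨y, hy, rfl⟩
      exact ⟨y * x * y⁻¹, (hH i hl').2 x hx y hy, by simp⟩
    · obtain rfl : i = l := by omega
      rw [h3, h2]
      exact ⟨le_top, fun x hx y _ => ‹N.Normal›.conj_mem x hx y⟩

/-- Bounds add along a homomorphism. -/
theorem LenLE.add_hom {a b : ℕ} (f : G →* K) (ha : LenLE f.ker a) (hb : LenLE f.range b) :
    LenLE G (a + b) := by
  classical
  intro l H hH hl
  set A : ℕ → Subgroup f.ker := fun i => (H i).subgroupOf f.ker with hA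
  set B : ℕ → Subgroup f.range := fun i => (H i).map f.rangeRestrict with hB
  have h1 := ha l A (fun i hi => ⟨fun x hx => (hH i hi).1 hx, fun x hx y hy => by
    rw [hA, Subgroup.mem_subgroupOf, Subgroup.coe_mul, Subgroup.coe_mul, Subgroup.coe_inv]
    exact (hH i hi).2 _ hx _ hy⟩) (by rw [hA]; simp [hl])
  have h2 := hb l B (fun i hi => ⟨Subgroup.map_mono (hH i hi).1, by
    rintro _ ⟨x, hx, rfl⟩ _ ⟨y, hy, rfl⟩
    exact ⟨y * x * y⁻¹, (hH i hi).2 x hx y hy, by simp⟩⟩) (by
    rw [hB]; simp only; rw [hl, Subgroup.map_top_of_surjective _ f.rangeRestrict_surjective])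
  refine le_trans ?_ (Nat.add_le_add h1 h2)
  rw [← Nat.mul_add]
  refine Nat.mul_le_mul_left 3 (le_trans (Finset.card_le_card fun i hi => ?_) (Finset.card_union_le _ _))
  obtain ⟨hi1, hi2⟩ := Finset.mem_filter.1 hi
  rw [Finset.mem_union, Finset.mem_filter, Finset.mem_filter]
  by_contra hc
  push Not at hc
  have hAi := hc.1 hi1
  have hBi := hc.2 hi1
  refine hi2 (le_antisymm (hH i (Finset.mem_range.1 hi1)).1 fun x hx => ?_)
  obtain ⟨h, hh, hhx⟩ : f.rangeRestrict x ∈ B i := hBi ▸ Subgroup.mem_map_of_mem _ hx
  have hk : h⁻¹ * x ∈ f.ker := by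
    rw [← MonoidHom.ker_rangeRestrict, MonoidHom.mem_ker, map_mul, map_inv, hhx, inv_mul_cancel]
  have hkA : (⟨h⁻¹ * x, hk⟩ : f.ker) ∈ A i :=
    hAi ▸ (show h⁻¹ * x ∈ H (i + 1) from mul_mem (inv_mem ((hH i (Finset.mem_range.1 hi1)).1 hh)) hx)
  simpa using mul_mem hh hkA

/-- Bounds add along a normal subgroup with a surjection onto the quotient. -/
theorem LenLE.add_normal {a b : ℕ} (N : Subgroup G) [N.Normal] (ha : LenLE N a)
    (hb : LenLE (G ⧸ N) b) : LenLE G (a + b) :=
  LenLE.add_hom (QuotientGroup.mk' N)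
    (ha.of_equiv (MulEquiv.subgroupCongr (QuotientGroup.ker_mk' N).symm))
    (hb.of_equiv ((Subgroup.topEquiv.symm).trans (MulEquiv.subgroupCongr (QuotientGroup.range_mk' N).symm)))

theorem two_pow_cardFactors_le {n : ℕ} (hn : n ≠ 0) : 2 ^ Ω n ≤ n := by
  rw [ArithmeticFunction.cardFactors_apply]
  calc 2 ^ n.primeFactorsList.length ≤ n.primeFactorsList.prod :=
        List.pow_card_le_prod _ _ fun p hp => (Nat.prime_of_mem_primeFactorsList hp).two_le
    _ = n := Nat.prod_primeFactorsList hn

theorem cardFactors_le_log {n : ℕ} (hn : n ≠ 0) : Ω n ≤ Nat.log 2 n :=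
  Nat.le_log_of_pow_le one_lt_two (two_pow_cardFactors_le hn)

theorem cardFactors_card_lt [Finite G] {A B : Subgroup G} (h : A ≤ B) (hne : A ≠ B) :
    Ω (Nat.card A) < Ω (Nat.card B) := by
  obtain ⟨c, hc⟩ := Subgroup.card_dvd_of_le h
  have hA : 0 < Nat.card A := Nat.card_pos
  have hB : 0 < Nat.card B := Nat.card_pos
  have hc0 : c ≠ 0 := fun h0 => hB.ne' (by rw [hc, h0, mul_zero])
  have hc1 : c ≠ 1 := fun h1 => hne (Subgroup.eq_of_le_of_card_ge h (by rw [hc, h1, mul_one]))
  rw [hc, ArithmeticFunction.cardFactors_mul hA.ne' hc0]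
  have := (ArithmeticFunction.cardFactors_pos_iff_one_lt (n := c)).2 (by omega)
  omega

/-- The number of prime factors of the order bounds the length. -/
theorem lenLE_cardFactors [Finite G] : LenLE G (3 * Ω (Nat.card G)) := by
  classical
  intro l H hH hl
  refine Nat.mul_le_mul_left 3 ?_
  have key : ∀ j ≤ l, ((Finset.range j).filter fun i => H i ≠ H (i + 1)).card ≤ Ω (Nat.card (H j)) := by
    intro j
    induction j with
    | zero => intro _; simp
    | succ j ih =>
      intro hj
      have := ih (by omega)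
      rw [Finset.range_add_one, Finset.filter_insert]
      by_cases he : H j = H (j + 1)
      · rw [if_neg (by simpa using he), ← he]
        exact this
      · rw [if_pos he, Finset.card_insert_of_notMem (by simp)]
        exact (Nat.add_le_add_right this 1).trans (cardFactors_card_lt (hH j (by omega)).1 he)
  have := key l le_rfl
  rwa [hl, Subgroup.card_top] at this

/-- A simple group has length one. -/
theorem lenLE_simple [IsSimpleGroup G] : LenLE G 3 := by
  classical
  intro l H hH hl
  have key : ∀ d ≤ l, H (l - d) = ⊥ ∨ H (l - d) = ⊤ := by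
    intro d
    induction d with
    | zero => intro _; exact Or.inr (by simpa using hl)
    | succ d ih =>
      intro hd
      obtain ⟨h1, h2⟩ := hH (l - (d + 1)) (by omega)
      rw [show l - (d + 1) + 1 = l - d by omega] at h1 h2
      rcases ih (by omega) with h | h
      · exact Or.inl (le_bot_iff.1 (h ▸ h1))
      · haveI : (H (l - (d + 1))).Normal :=
          ⟨fun x hx g => h2 x hx g (h ▸ Subgroup.mem_top g)⟩
        exact IsSimpleGroup.eq_bot_or_eq_top_of_normal _ this
  have hall : ∀ i ≤ l, H i = ⊥ ∨ H i = ⊤ := fun i hi => by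
    have := key (l - i) (by omega)
    rwa [show l - (l - i) = i by omega] at this
  have hle : ∀ i ∈ (Finset.range l).filter (fun i => H i ≠ H (i + 1)),
      H i = ⊥ ∧ H (i + 1) = ⊤ := by
    intro i hi
    obtain ⟨hi1, hi2⟩ := Finset.mem_filter.1 hi
    rw [Finset.mem_range] at hi1
    have h1 := (hH i hi1).1
    rcases hall i hi1.le with h | h <;> rcases hall (i + 1) hi1 with h' | h'
    · exact absurd (h.trans h'.symm) hi2
    · exact ⟨h, h'⟩
    · exact absurd (le_antisymm h1 (by rw [h, h']; exact bot_le)) hi2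
    · exact absurd (h.trans h'.symm) hi2
  have hmono : ∀ i j, i ≤ j → j ≤ l → H i ≤ H j := by
    intro i j hij
    induction j, hij using Nat.le_induction with
    | base => exact fun _ => le_rfl
    | succ j hij ih => exact fun hj => (ih (by omega)).trans (hH j (by omega)).1
  have hcard : ((Finset.range l).filter fun i => H i ≠ H (i + 1)).card ≤ 1 := by
    refine Finset.card_le_one.2 fun i hi j hj => ?_
    by_contra hij
    rcases lt_or_gt_of_ne hij with hlt | hlt
    · have := hmono (i + 1) j hlt (Finset.mem_range.1 (Finset.mem_filter.1 hj).1).le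
      rw [(hle i hi).2, (hle j hj).1] at this
      exact bot_ne_top (le_antisymm bot_le this)
    · have := hmono (j + 1) i hlt (Finset.mem_range.1 (Finset.mem_filter.1 hi).1).le
      rw [(hle j hj).2, (hle i hi).1] at this
      exact bot_ne_top (le_antisymm bot_le this)
  omega

/-- Finitely many homomorphisms onto bounded groups. -/
theorem LenLE.of_family {ι : Type*} (s : Finset ι) {B : ι → Type*} [∀ i, Group (B i)]
    (f : ∀ i, G →* B i) (hf : ∀ i, Function.Surjective (f i)) {b : ι → ℕ}
    (hb : ∀ i ∈ s, LenLE (B i) (b i)) {a : ℕ}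
    (ha : LenLE (⨅ i ∈ s, (f i).ker : Subgroup G) a) : LenLE G (a + ∑ i ∈ s, b i) := by
  classical
  induction s using Finset.induction generalizing a with
  | empty =>
    have ha' : LenLE (⊤ : Subgroup G) a := ha.of_equiv (MulEquiv.subgroupCongr (by simp))
    simpa using ha'.of_equiv Subgroup.topEquiv
  | insert i s his ih =>
    set I : Subgroup G := ⨅ j ∈ s, (f j).ker with hI
    haveI hIn : I.Normal := by
      refine ⟨fun x hx g => ?_⟩
      simp only [hI, Subgroup.mem_iInf] at hx ⊢
      exact fun j hj => (MonoidHom.normal_ker (f j)).conj_mem x (hx j hj) g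
    set g : I →* B i := (f i).comp I.subtype with hg
    haveI : g.range.Normal := by
      have hr : g.range = I.map (f i) := by
        rw [hg, MonoidHom.range_comp, Subgroup.range_subtype]
      rw [hr]
      exact hIn.map _ (hf i)
    have hker : LenLE g.ker a := by
      have heq : g.ker = ((⨅ j ∈ insert i s, (f j).ker : Subgroup G)).subgroupOf I := by
        ext x
        simp only [hg, MonoidHom.mem_ker, Subgroup.mem_subgroupOf, Subgroup.mem_iInf, Finset.mem_insert]
        constructor
        · rintro h j (rfl | hj)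
          · exact h
          · exact MonoidHom.mem_ker.1 (Subgroup.mem_iInf.1 (Subgroup.mem_iInf.1 x.2 j) hj)
        · exact fun h => h i (Or.inl rfl)
      rw [heq]
      refine ha.of_equiv (Subgroup.subgroupOfEquivOfLe ?_).symm
      intro x hx
      simp only [hI, Subgroup.mem_iInf] at hx ⊢
      exact fun j hj => hx j (Finset.mem_insert_of_mem hj)
    have hrange : LenLE g.range (b i) := (hb i (Finset.mem_insert_self _ _)).of_normal _
    have h := ih (fun j hj => hb j (Finset.mem_insert_of_mem hj)) (LenLE.add_hom g hker hrange)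
    rw [Finset.sum_insert his]
    exact h.mono (le_of_eq (Nat.add_assoc _ _ _))

end CfsgLib.CompLength
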