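import Cfsg.Agent.Lib.CompLength.Action
import Cfsg.Agent.Lib.CompLength.Arith
import Cfsg.Agent.Lib.Recog.SocleFactors
import Cfsg.Agent.Lib.Small.Basic

/-!
Orbits of products of simple factors of a minimal normal subgroup in a primitive group.
-/

set_option autoImplicit false

namespace CfsgLib.CompLength

open MulAction CfsgLib.Recog
open scoped Pointwise

variable {G X : Type*} [Group G] [MulAction G X] {N T : Subgroup G}

/-- The conjugates of `T`. -/
def factors (T : Subgroup G) : Set (Subgroup G) := Set.range fun g => conjSub g T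

theorem mem_factors_self (T : Subgroup G) : T ∈ factors T := ⟨1, conjSub_one T⟩

theorem of_mem (h : IsSocleFactor N T) {L : Subgroup G} (hL : L ∈ factors T) :
    IsSocleFactor N L := by
  obtain ⟨g, rfl⟩ := hL
  exact h.map_conj g

theorem card_factor {L : Subgroup G} (hL : L ∈ factors T) : Nat.card L = Nat.card T := by
  obtain ⟨g, rfl⟩ := hL
  refine Nat.card_congr ((MulAut.conj g⁻¹).toEquiv.subtypeEquiv fun x => ?_)
  exact Iff.rfl

/-- A product of factors is normalised by `N`. -/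
theorem conj_mem_iSup (h : IsSocleFactor N T) {s : Finset (Subgroup G)} (hs : ∀ L ∈ s, L ∈ factors T)
    {n x : G} (hn : n ∈ N) (hx : x ∈ ⨆ L ∈ s, L) : n * x * n⁻¹ ∈ ⨆ L ∈ s, L := by
  have hle : (⨆ L ∈ s, L) ≤ (⨆ L ∈ s, L).comap (MulAut.conj n).toMonoidHom :=
    iSup₂_le fun L hL x hx => Subgroup.mem_iSup_of_mem L (Subgroup.mem_iSup_of_mem hL
      ((of_mem h (hs L hL)).conj_mem n hn x hx))
  simpa using hle hx

variable [FaithfulSMul G X] [IsPreprimitive G X] [Finite G] [Finite X]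

theorem factor_orbit_card (h : IsSocleFactor N T) (α : X) {L : Subgroup G} (hL : L ∈ factors T) :
    (orbit L α).ncard = (orbit T α).ncard := by
  obtain ⟨g, rfl⟩ := hL
  obtain ⟨k, hk, hkg⟩ := h.exists_conjSub_eq_stabilizer g α
  show (orbit (conjSub g T) α).ncard = _
  rw [hkg]
  rw [show orbit (conjSub k T) α = (fun x => k • x) '' orbit T α from ?_,
    Set.ncard_image_of_injective _ (MulAction.injective k)]
  ext y
  constructor
  · rintro ⟨⟨x, hx⟩, rfl⟩
    refine ⟨(k⁻¹ * x * k) • α, ⟨⟨_, mem_conjSub.1 hx⟩, rfl⟩, ?_⟩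
    show k • (k⁻¹ * x * k) • α = x • α
    rw [smul_smul, show k * (k⁻¹ * x * k) = x * k by group, mul_smul, mem_stabilizer_iff.1 hk]
  · rintro ⟨_, ⟨⟨x, hx⟩, rfl⟩, rfl⟩
    refine ⟨⟨k * x * k⁻¹, conj_mem_conjSub hx⟩, ?_⟩
    show (k * x * k⁻¹) • α = k • x • α
    rw [mul_smul, mul_smul, inv_smul_eq_iff.2 (mem_stabilizer_iff.1 hk).symm]

/-- No factor fixes a point. -/
theorem not_fixed [Nontrivial X] (h : IsSocleFactor N T) (α : X) : ¬ ∀ t ∈ T, t • α = α := by
  intro hf
  refine h.ne_bot ((Subgroup.eq_bot_iff_forall T).2 fun t ht => FaithfulSMul.eq_of_smul_eq_smul fun x : X => ?_)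
  haveI := h.isPretransitive (Ω := X)
  obtain ⟨n, rfl⟩ := MulAction.exists_smul_eq N α x
  have h1 := hf _ (h.conj_mem (n : G)⁻¹ (inv_mem n.2) t ht)
  rw [inv_inv, mul_smul, mul_smul, inv_smul_eq_iff] at h1
  rw [one_smul]
  exact h1

theorem five_le_orbit [Nontrivial X] (h : IsSocleFactor N T) (α : X) : 5 ≤ (orbit T α).ncard := by
  haveI := h.isSimpleGroup
  rw [← MulAction.index_stabilizer]
  refine CfsgLib.Small.five_le_index h.not_comm fun htop => not_fixed h α fun t ht => ?_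
  exact (htop ▸ Subgroup.mem_top (⟨t, ht⟩ : T) : (⟨t, ht⟩ : T) ∈ stabilizer T α)

/-- An orbit of a product of factors, when not everything, grows at least five times. -/
theorem exists_grow (h : IsSocleFactor N T) (α : X) {s : Finset (Subgroup G)}
    (hs : ∀ L ∈ s, L ∈ factors T) (hne : orbit (⨆ L ∈ s, L : Subgroup G) α ≠ Set.univ) :
    ∃ L ∈ factors T, L ∉ s ∧ ∀ s' : Finset (Subgroup G), L ∈ s' → s ⊆ s' →
      5 * (orbit (⨆ L ∈ s, L : Subgroup G) α).ncard ≤ (orbit (⨆ L ∈ s', L : Subgroup G) α).ncard := by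
  classical
  set M : Subgroup G := ⨆ L ∈ s, L with hM
  set O : Set X := orbit M α with hO
  obtain ⟨L, hL, hLO⟩ : ∃ L ∈ factors T, ¬ L ≤ stabilizer G O := by
    by_contra hc
    push Not at hc
    refine hne (Set.eq_univ_of_forall fun x => ?_)
    have hN : N ≤ stabilizer G O := by
      rw [← h.iSup_conj_eq]
      exact iSup_le fun g => hc _ ⟨g, rfl⟩
    haveI := h.isPretransitive (Ω := X)
    obtain ⟨n, rfl⟩ := MulAction.exists_smul_eq N α x
    have hn : (n : G) • O = O := mem_stabilizer_iff.1 (hN n.2)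
    rw [← hn]
    exact Set.smul_mem_smul_set (mem_orbit_self α)
  have hLs : L ∉ s := fun hLs => hLO fun x hx => by
    rw [mem_stabilizer_iff]
    have hxM : x ∈ M := Subgroup.mem_iSup_of_mem L (Subgroup.mem_iSup_of_mem hLs hx)
    exact MulAction.smul_orbit (⟨x, hxM⟩ : M) α
  refine ⟨L, hL, hLs, fun s' hLs' hss' => ?_⟩
  set M' : Subgroup G := ⨆ L ∈ s', L with hM'
  have hMM' : M ≤ M' := biSup_mono fun x hx => hss' hx
  have hLM' : L ≤ M' := le_iSup₂ (f := fun (K : Subgroup G) (_ : K ∈ s') => K) L hLs'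
  have hLf := of_mem h hL
  haveI := hLf.isSimpleGroup
  have horb : 5 ≤ (orbit L O).ncard := by
    rw [← MulAction.index_stabilizer]
    refine CfsgLib.Small.five_le_index hLf.not_comm fun htop => hLO fun x hx => ?_
    exact (htop ▸ Subgroup.mem_top (⟨x, hx⟩ : L) : (⟨x, hx⟩ : L) ∈ stabilizer L O)
  haveI := Fintype.ofFinite X
  haveI := Fintype.ofFinite (Set X)
  have htr : ∀ Y ∈ orbit L O, ∃ y, Y = orbit M y := by
    rintro _ ⟨⟨l, hl⟩, rfl⟩
    refine ⟨l • α, Set.ext fun z => ?_⟩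
    constructor
    · rintro ⟨_, ⟨⟨m, hm⟩, rfl⟩, rfl⟩
      refine ⟨⟨l * m * l⁻¹, conj_mem_iSup h hs (hLf.le hl) hm⟩, ?_⟩
      show (l * m * l⁻¹) • l • α = l • m • α
      rw [smul_smul, smul_smul, inv_mul_cancel_right]
    · rintro ⟨⟨m, hm⟩, rfl⟩
      have hm' := conj_mem_iSup h hs (hLf.le (inv_mem hl)) hm
      rw [inv_inv] at hm'
      refine ⟨(l⁻¹ * m * l) • α, ⟨⟨_, hm'⟩, rfl⟩, ?_⟩
      show l • (l⁻¹ * m * l) • α = m • l • α
      rw [smul_smul, smul_smul, show l * (l⁻¹ * m * l) = m * l by group]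
  have hsub : ((orbit L O).toFinset.biUnion fun Y => Y.toFinset) ⊆ (orbit M' α).toFinset := by
    intro z hz
    simp only [Finset.mem_biUnion, Set.mem_toFinset] at hz ⊢
    obtain ⟨_, ⟨⟨l, hl⟩, rfl⟩, _, ⟨⟨m, hm⟩, rfl⟩, rfl⟩ := hz
    exact ⟨⟨l * m, mul_mem (hLM' hl) (hMM' hm)⟩, mul_smul l m α⟩
  have hdisj : Set.PairwiseDisjoint ((orbit L O).toFinset : Set (Set X)) fun Y => Y.toFinset := by
    intro Y hY Z hZ hne'
    rw [Finset.mem_coe, Set.mem_toFinset] at hY hZ
    obtain ⟨y, rfl⟩ := htr Y hY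
    obtain ⟨z, rfl⟩ := htr Z hZ
    refine Finset.disjoint_left.2 fun w hwy hwz => hne' ?_
    rw [Set.mem_toFinset] at hwy hwz
    exact (orbit_eq_iff.2 hwy).symm.trans (orbit_eq_iff.2 hwz)
  have hcard := Finset.card_le_card hsub
  rw [Finset.card_biUnion hdisj, Finset.sum_congr rfl (g := fun _ => O.ncard) fun Y hY => ?_,
    Finset.sum_const, smul_eq_mul, ← Set.ncard_eq_toFinset_card', ← Set.ncard_eq_toFinset_card'] at hcard
  · exact (Nat.mul_le_mul_right _ horb).trans hcard
  · rw [Set.mem_toFinset] at hY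
    obtain ⟨⟨l, hl⟩, rfl⟩ := hY
    rw [← Set.ncard_eq_toFinset_card']
    exact Set.ncard_image_of_injective O (MulAction.injective l)

/-- A set of factors with transitive product and long orbit. -/
theorem exists_transitive_set (h : IsSocleFactor N T) (α : X) :
    ∃ s : Finset (Subgroup G), T ∈ s ∧ (∀ L ∈ s, L ∈ factors T) ∧
      orbit (⨆ L ∈ s, L : Subgroup G) α = Set.univ ∧
      5 ^ (s.card - 1) * (orbit T α).ncard ≤ Nat.card X := by
  classical
  haveI := Fintype.ofFinite (Subgroup G)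
  set P : Finset (Subgroup G) → Prop := fun s => T ∈ s ∧ (∀ L ∈ s, L ∈ factors T) ∧
    5 ^ (s.card - 1) * (orbit T α).ncard ≤ (orbit (⨆ L ∈ s, L : Subgroup G) α).ncard with hP
  have hbase : P {T} := by
    refine ⟨Finset.mem_singleton_self T, fun L hL => (Finset.mem_singleton.1 hL) ▸ mem_factors_self T, ?_⟩
    rw [Finset.card_singleton, Nat.sub_self, pow_zero, one_mul,
      show (⨆ L ∈ ({T} : Finset (Subgroup G)), L) = T by simp]
  obtain ⟨s, hs, hmax⟩ := Finset.exists_max_image (Finset.univ.filter P) Finset.card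
    ⟨{T}, Finset.mem_filter.2 ⟨Finset.mem_univ _, hbase⟩⟩
  obtain ⟨hTs, hsf, hb⟩ := (Finset.mem_filter.1 hs).2
  have htr : orbit (⨆ L ∈ s, L : Subgroup G) α = Set.univ := by
    by_contra hne
    obtain ⟨L, hL, hLs, hgrow⟩ := exists_grow h α hsf hne
    have hg := hgrow (insert L s) (Finset.mem_insert_self _ _) (Finset.subset_insert _ _)
    have hc := Finset.card_insert_of_notMem hLs
    have hs1 : 1 ≤ s.card := Finset.card_pos.2 ⟨T, hTs⟩
    have := hmax (insert L s) (Finset.mem_filter.2 ⟨Finset.mem_univ _, Finset.mem_insert_of_mem hTs,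
      fun K hK => (Finset.mem_insert.1 hK).elim (fun e => e ▸ hL) (hsf K), ?_⟩)
    · omega
    · rw [hc, show s.card + 1 - 1 = (s.card - 1) + 1 by omega, pow_succ]
      calc 5 ^ (s.card - 1) * 5 * (orbit T α).ncard = 5 * (5 ^ (s.card - 1) * (orbit T α).ncard) := by ring
        _ ≤ 5 * (orbit (⨆ L ∈ s, L : Subgroup G) α).ncard := Nat.mul_le_mul_left _ hb
        _ ≤ _ := hg
  refine ⟨s, hTs, hsf, htr, hb.trans ?_⟩
  rw [htr, Set.ncard_univ]

/-- The factors outside a transitive set act semiregularly. -/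
theorem pow_card_le (h : IsSocleFactor N T) (α : X) {s r : Finset (Subgroup G)}
    (hs : ∀ L ∈ s, L ∈ factors T) (hr : ∀ L ∈ r, L ∈ factors T) (hd : ∀ L ∈ r, L ∉ s)
    (htr : orbit (⨆ L ∈ s, L : Subgroup G) α = Set.univ) : Nat.card T ^ r.card ≤ Nat.card X := by
  classical
  set M : Subgroup G := ⨆ L ∈ s, L with hM
  haveI : IsPretransitive M X := (MulAction.isPretransitive_iff_base α).2 fun x => (htr ▸ Set.mem_univ x : x ∈ orbit M α)
  let F : (∀ L : r, (L : Subgroup G)) → Subgroup G → G := fun f L => if hL : L ∈ r then (f ⟨L, hL⟩ : G) else 1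
  have hF : ∀ f g, F f (conjSub g T) ∈ conjSub g T := fun f g => by
    simp only [F]
    split_ifs with hL
    · exact (f ⟨_, hL⟩).2
    · exact one_mem _
  choose z hz hzc using fun f => h.exists_assemble (F f) (hF f)
  have hzM : ∀ f, z f ∈ Subgroup.centralizer (M : Set G) := fun f => by
    refine (Subgroup.closure_le _).2 ?_ (hz f).2
    rintro _ ⟨g, rfl⟩
    simp only [F]
    split_ifs with hL
    · rw [SetLike.mem_coe]
      refine Subgroup.le_centralizer_iff.1 (iSup₂_le fun L hLs => ?_) (f ⟨_, hL⟩).2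
      exact (of_mem h (hs L hLs)).commute_of_ne (of_mem h (hr _ hL)) fun e => hd _ hL (by rw [← show L = conjSub g T from e]; exact hLs)
    · exact one_mem _
  have hinj : Function.Injective fun f => z f • α := by
    intro f f' hff
    have heq : z f = z f' := inv_mul_eq_one.1
      (eq_one_of_mem_centralizer (V := M) (a := α) (mul_mem (inv_mem (hzM f)) (hzM f'))
        (by rw [mul_smul, inv_smul_eq_iff]; exact hff.symm))
    funext L
    obtain ⟨g, hg⟩ := hr L.1 L.2
    change conjSub g T = (L : Subgroup G) at hg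
    have h1 := hzc f g
    rw [heq, hzc f' g] at h1
    simp only [F, hg, dif_pos L.2] at h1
    exact (Subtype.ext h1).symm
  have := Nat.card_le_card_of_injective _ hinj
  rw [Nat.card_pi, Finset.prod_congr rfl fun L _ => card_factor (hr L.1 L.2), Finset.prod_const,
    Finset.card_univ, Fintype.card_coe] at this
  exact this

end CfsgLib.CompLength
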