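import Cfsg.Agent.Lib.CompLength.Growth
import Cfsg.Agent.Lib.CompLength.Affine

/-!
A permutation group of degree `n` with `r` orbits has composition length at most `4/3 (n - r)`.
-/

set_option autoImplicit false

universe u v

namespace CfsgLib.CompLength

open MulAction CfsgLib.Recog CfsgLib.Base
open scoped Pointwise

variable {G X : Type v} [Group G] [Finite G] [MulAction G X] [FaithfulSMul G X] [Finite X] {N T : Subgroup G}

omit [Finite G] [MulAction G X] [FaithfulSMul G X] [Finite X] in
theorem conjSub_mem_factors (g : G) (L : factors T) : conjSub g (L : Subgroup G) ∈ factors T := by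
  obtain ⟨_, g', rfl⟩ := L
  exact ⟨g * g', conjSub_mul g g' T⟩

omit [Finite G] [MulAction G X] [FaithfulSMul G X] [Finite X] in
/-- The action on the factors. -/
def factorHom (T : Subgroup G) : G →* Equiv.Perm (factors T) where
  toFun g :=
    { toFun := fun L => ⟨conjSub g L, conjSub_mem_factors g L⟩
      invFun := fun L => ⟨conjSub g⁻¹ L, conjSub_mem_factors g⁻¹ L⟩
      left_inv := fun L => Subtype.ext (by
        show conjSub g⁻¹ (conjSub g L.1) = L.1
        rw [← conjSub_mul, inv_mul_cancel, conjSub_one])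
      right_inv := fun L => Subtype.ext (by
        show conjSub g (conjSub g⁻¹ L.1) = L.1
        rw [← conjSub_mul, mul_inv_cancel, conjSub_one]) }
  map_one' := Equiv.ext fun L => Subtype.ext (conjSub_one L.1)
  map_mul' g h := Equiv.ext fun L => Subtype.ext (conjSub_mul g h L.1)

omit [Finite G] [MulAction G X] [FaithfulSMul G X] [Finite X] in
theorem mem_ker_factorHom {k : G} (hk : k ∈ (factorHom T).ker) {L : Subgroup G} (hL : L ∈ factors T) {x : G}
    (hx : x ∈ L) : k * x * k⁻¹ ∈ L := by
  have h : conjSub k L = L := congrArg Subtype.val (DFunLike.congr_fun (MonoidHom.mem_ker.1 hk) (⟨L, hL⟩ : factors T))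
  rw [← h]
  exact conj_mem_conjSub hx

omit [Finite G] [MulAction G X] [FaithfulSMul G X] [Finite X] in
theorem le_ker_factorHom (h : IsSocleFactor N T) : N ≤ (factorHom T).ker := by
  intro n hn
  refine MonoidHom.mem_ker.2 (Equiv.ext fun L => Subtype.ext ?_)
  have hL := of_mem h L.2
  show conjSub n L.1 = L.1
  ext x
  rw [mem_conjSub]
  refine ⟨fun hx => ?_, fun hx => ?_⟩
  · simpa [mul_assoc] using hL.conj_mem n hn _ hx
  · simpa using hL.conj_mem n⁻¹ (inv_mem hn) _ hx

variable [IsPreprimitive G X] {n : ℕ}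

theorem exists_stabilizer_factor (h : IsSocleFactor N T) (α : X) (g : G) :
    ∃ m ∈ N, ∃ a ∈ stabilizer G α, g = m * a := h.exists_eq_mul_stabilizer g α

/-- A simple normal subgroup. -/
theorem lenLE_simple_socle [Nontrivial X] (ih : BoundBelow.{v} n) (hn : Nat.card X = n)
    (h : IsSocleFactor N T) (hTN : T = N) : LenLE G (4 * (n - 1)) := by
  classical
  subst hTN
  obtain ⟨α⟩ : Nonempty X := inferInstance
  haveI := h.isMinimalNormal.normal
  haveI := h.isSimpleGroup
  obtain ⟨β, hβ⟩ := exists_ne α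
  have hA : LenLE (stabilizer G α) (4 * (n - 2)) := by
    have := lenLE_many_orbits (H := stabilizer G α) ih hn (fun x => decide (x = α)) ?_ ?_ (by simp)
    · simpa using this
    · intro b
      cases b
      · exact ⟨β, by simpa using hβ⟩
      · exact ⟨α, by simp⟩
    · intro k x
      simp only [decide_eq_decide]
      rw [show k • x = (k : G) • x from rfl, smul_eq_iff_eq_inv_smul,
        inv_smul_eq_iff.2 (mem_stabilizer_iff.1 k.2).symm]
  have hQ : LenLE (G ⧸ T) (4 * (n - 2)) := by
    refine hA.of_surjective ((QuotientGroup.mk' T).comp (stabilizer G α).subtype) fun q => ?_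
    obtain ⟨g, rfl⟩ := QuotientGroup.mk_surjective q
    obtain ⟨m, hm, a, ha, rfl⟩ := h.exists_eq_mul_stabilizer g α
    exact ⟨⟨a, ha⟩, by
      show ((a : G) : G ⧸ T) = ((m * a : G) : G ⧸ T)
      rw [QuotientGroup.mk_mul, (QuotientGroup.eq_one_iff m).2 hm, one_mul]⟩
  refine (LenLE.add_normal T lenLE_simple hQ).mono ?_
  have := Finite.one_lt_card (α := X)
  omega

/-- Two regular factors. -/
theorem lenLE_two_regular [Nontrivial X] (ih : BoundBelow.{v} n) (hn : Nat.card X = n)
    (h : IsSocleFactor N T) (hm : Nat.card (factors T) = 2) (hcard : Nat.card T = n) (α : X)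
    (htr : orbit T α = Set.univ) : LenLE G (4 * (n - 1)) := by
  classical
  set K := (factorHom T).ker with hK
  haveI := h.isSimpleGroup
  haveI : Nonempty (factors T) := ⟨⟨T, mem_factors_self T⟩⟩
  have hn5 : 5 ≤ n := by
    have := five_le_orbit h α
    rw [htr, Set.ncard_univ, hn] at this
    exact this
  have hrange := lenLE_range_one ih (by omega) (factorHom T)
  haveI : (T.subgroupOf K).Normal := ⟨fun x hx k => by
    rw [Subgroup.mem_subgroupOf] at hx ⊢
    simpa using mem_ker_factorHom k.2 (mem_factors_self T) hx⟩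
  have hTK : T ≤ K := h.le.trans (le_ker_factorHom h)
  -- `T` is regular
  have hreg : Function.Bijective fun t : T => (t : G) • α := by
    have hs : Function.Surjective fun t : T => (t : G) • α := fun x => by
      obtain ⟨t, ht⟩ := (htr ▸ Set.mem_univ x : x ∈ orbit T α)
      exact ⟨t, ht⟩
    exact hs.bijective_of_nat_card_le (by rw [hcard, hn])
  let e := Equiv.ofBijective _ hreg
  obtain ⟨p, hp, hpT⟩ := Nat.exists_prime_and_dvd (Finite.one_lt_card (α := T)).ne'
  haveI := Fact.mk hp
  obtain ⟨t₁, ht₁⟩ := exists_prime_orderOf_dvd_card' p hpT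
  obtain ⟨t₂, ht₂, ht₂'⟩ : ∃ t : T, t ≠ 1 ∧ ¬ p ∣ orderOf t := by
    by_contra hc
    push Not at hc
    refine h.not_comm ?_
    have hP : IsPGroup p T := by
      intro t
      obtain ⟨k, m, hm', heq⟩ := Nat.exists_eq_pow_mul_and_not_dvd (orderOf_pos t).ne' p hp.ne_one
      refine ⟨k, orderOf_dvd_iff_pow_eq_one.1 ?_⟩
      by_cases hm1 : m = 1
      · rw [heq, hm1, mul_one]
      · exfalso
        have hord : orderOf (t ^ p ^ k) = m := by
          rw [orderOf_pow' t (pow_ne_zero _ hp.ne_zero), heq, Nat.gcd_eq_right (dvd_mul_right _ _),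
            Nat.mul_div_cancel_left _ (pow_pos hp.pos k)]
        exact hm' (hord ▸ hc (t ^ p ^ k) fun h1 => hm1 (by rw [← hord, h1, orderOf_one]))
    haveI := hP.center_nontrivial
    rcases IsSimpleGroup.eq_bot_or_eq_top_of_normal (Subgroup.center T) inferInstance with h1 | h1
    · exact absurd h1 ((Subgroup.nontrivial_iff_ne_bot _).1 inferInstance)
    · exact ⟨⟨fun a b => Subgroup.mem_center_iff.1 (h1 ▸ Subgroup.mem_top b) a⟩⟩
  let φ : X → Option Bool := fun x => if x = α then none else some (decide (p ∣ orderOf (e.symm x)))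
  have hφα : ∀ t : T, t ≠ 1 → e t ≠ α := fun t ht h1 => ht (hreg.1 (by
    show (t : G) • α = ((1 : T) : G) • α
    rw [OneMemClass.coe_one, one_smul]
    exact h1))
  have hφs : Function.Surjective φ := by
    rintro (_ | b)
    · exact ⟨α, if_pos rfl⟩
    cases b
    · exact ⟨e t₂, by simp only [φ, if_neg (hφα t₂ ht₂), Equiv.symm_apply_apply]; simp [ht₂']⟩
    · refine ⟨e t₁, ?_⟩
      have hne : t₁ ≠ 1 := fun h1 => hp.ne_one (by rw [← ht₁, h1, orderOf_one])
      simp only [φ, if_neg (hφα t₁ hne), Equiv.symm_apply_apply, ht₁]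
      simp
  set A := stabilizer K α with hA
  have hφi : ∀ (a : A) x, φ (a • x) = φ x := by
    intro a x
    have hax : a • x = (a : K).1 • x := rfl
    have haα : (a : K).1 • α = α := a.2
    simp only [φ, hax]
    by_cases hx : x = α
    · subst hx; rw [haα]
    · rw [if_neg (fun h1 => hx (MulAction.injective (a : K).1 (h1.trans haα.symm))), if_neg hx]
      obtain ⟨t, rfl⟩ := e.surjective x
      have ht' : (a : K).1 * t * (a : K).1⁻¹ ∈ T := mem_ker_factorHom (a : K).2 (mem_factors_self T) t.2
      have he : (a : K).1 • e t = e ⟨_, ht'⟩ := by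
        show (a : K).1 • (t : G) • α = ((a : K).1 * t * (a : K).1⁻¹) • α
        rw [mul_smul, mul_smul, inv_smul_eq_iff.2 haα.symm]
      rw [he, Equiv.symm_apply_apply, Equiv.symm_apply_apply]
      refine congrArg some (decide_eq_decide.2 (Iff.of_eq (congrArg (p ∣ ·) ?_)))
      rw [← Subgroup.orderOf_coe, ← Subgroup.orderOf_coe]
      exact (MulAut.conj (a : K).1).orderOf_eq (t : G)
  have hAb := lenLE_many_orbits (H := A) ih hn φ hφs hφi (by simp)
  have hQ : LenLE (K ⧸ T.subgroupOf K) (4 * (n - 3)) := by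
    refine (hAb.mono (by simp)).of_surjective ((QuotientGroup.mk' _).comp A.subtype) fun q => ?_
    obtain ⟨k, rfl⟩ := QuotientGroup.mk_surjective q
    obtain ⟨t, ht⟩ := (htr ▸ Set.mem_univ ((k : G) • α) : (k : G) • α ∈ orbit T α)
    change (t : G) • α = (k : G) • α at ht
    refine ⟨⟨⟨(t : G)⁻¹, inv_mem (hTK t.2)⟩ * k, ?_⟩, ?_⟩
    · show ((t : G)⁻¹ * k) • α = α
      rw [mul_smul, inv_smul_eq_iff, ht]
    · show ((⟨(t : G)⁻¹, inv_mem (hTK t.2)⟩ * k : K) : K ⧸ T.subgroupOf K) = k
      rw [QuotientGroup.mk_mul, (QuotientGroup.eq_one_iff _).2 (by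
        rw [Subgroup.mem_subgroupOf]; exact inv_mem t.2), one_mul]
  have hKb := LenLE.add_normal (T.subgroupOf K)
    ((lenLE_simple (G := T)).of_equiv (Subgroup.subgroupOfEquivOfLe hTK).symm) hQ
  refine (LenLE.add_hom (factorHom T) hKb hrange).mono ?_
  omega

/-- The conjugation map on a normalised factor. -/
def conjHom (K L : Subgroup G) (hKL : ∀ k ∈ K, ∀ x ∈ L, k * x * k⁻¹ ∈ L) : K →* MulAut L where
  toFun k :=
    { toFun := fun x => ⟨(k : G) * x * (k : G)⁻¹, hKL k k.2 x x.2⟩
      invFun := fun x => ⟨(k : G)⁻¹ * x * k, by simpa using hKL (k : G)⁻¹ (inv_mem k.2) x x.2⟩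
      left_inv := fun x => Subtype.ext (by simp [mul_assoc])
      right_inv := fun x => Subtype.ext (by simp [mul_assoc])
      map_mul' := fun x y => Subtype.ext (by simp [mul_assoc]) }
  map_one' := MulEquiv.ext fun x => Subtype.ext (by simp)
  map_mul' k k' := MulEquiv.ext fun x => Subtype.ext (by simp [mul_assoc])

theorem conjHom_eq_iff {K L : Subgroup G} {hKL : ∀ k ∈ K, ∀ x ∈ L, k * x * k⁻¹ ∈ L} {k k' : K} :
    conjHom K L hKL k = conjHom K L hKL k' ↔
      ∀ x ∈ L, (k : G) * x * (k : G)⁻¹ = (k' : G) * x * (k' : G)⁻¹ := by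
  refine ⟨fun h x hx => congrArg Subtype.val (DFunLike.congr_fun h (⟨x, hx⟩ : L)),
    fun h => MulEquiv.ext fun x => Subtype.ext (h x x.2)⟩

/-- Each factor's automorphism group is seen in small degree. -/
theorem lenLE_conj_range [Nontrivial X] (ih : BoundBelow.{v} n) (h : IsSocleFactor N T) (α : X)
    (hd : (orbit T α).ncard < n) {L : Subgroup G} (hL : L ∈ factors T)
    (hKL : ∀ k ∈ (factorHom T).ker, ∀ x ∈ L, k * x * k⁻¹ ∈ L) :
    LenLE (conjHom _ L hKL).range (4 * ((orbit T α).ncard - 1)) := by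
  classical
  set K := (factorHom T).ker with hK
  have hLf := of_mem h hL
  have hLK : L ≤ K := hLf.le.trans (le_ker_factorHom h)
  set O : Set X := orbit L α with hO
  have hOcard : O.ncard = (orbit T α).ncard := factor_orbit_card h α hL
  set H : Subgroup K := L.subgroupOf K ⊔ stabilizer K α with hH
  have hinv : ∀ (k : H), ∀ x ∈ O, k • x ∈ O := by
    have hle : H ≤ stabilizer K O := by
      refine sup_le (fun k hk => ?_) fun k hk => ?_
      · rw [mem_stabilizer_iff]
        exact MulAction.smul_orbit (⟨(k : G), hk⟩ : L) α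
      · rw [mem_stabilizer_iff]
        have hkα : (k : G) • α = α := hk
        ext x
        constructor
        · rintro ⟨_, ⟨⟨y, hy⟩, rfl⟩, rfl⟩
          refine ⟨⟨_, hKL k k.2 y hy⟩, ?_⟩
          show ((k : G) * y * (k : G)⁻¹) • α = (k : G) • y • α
          rw [mul_smul, mul_smul, inv_smul_eq_iff.2 hkα.symm]
        · rintro ⟨⟨y, hy⟩, rfl⟩
          have hy' : (k : G)⁻¹ * y * k ∈ L := by simpa using hKL (k : G)⁻¹ (inv_mem k.2) y hy
          refine ⟨((k : G)⁻¹ * y * k) • α, ⟨⟨_, hy'⟩, rfl⟩, ?_⟩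
          show (k : G) • ((k : G)⁻¹ * y * k) • α = y • α
          rw [smul_smul, show (k : G) * ((k : G)⁻¹ * y * k) = y * k by group, mul_smul, hkα]
    intro k x hx
    have := mem_stabilizer_iff.1 (hle k.2)
    rw [← this]
    exact Set.smul_mem_smul_set hx
  let S := subAct O hinv
  let f : H →* Equiv.Perm S := toPermHom H S
  let ψ : H →* (conjHom K L hKL).range := (conjHom K L hKL).rangeRestrict.comp H.subtype
  haveI : Nonempty S := ⟨⟨α, mem_orbit_self α⟩⟩
  have hS : Nat.card S = (orbit T α).ncard := by rw [← hOcard]; rfl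
  have hf := lenLE_range_one ih (by rw [hS]; exact hd) f
  rw [hS] at hf
  have hker : f.ker ≤ ψ.ker := by
    intro k hk
    have hfix : ∀ x ∈ O, (k : K).1 • x = x := fun x hx =>
      congrArg Subtype.val (DFunLike.congr_fun (MonoidHom.mem_ker.1 hk) (⟨x, hx⟩ : S))
    refine Subtype.ext ?_
    show conjHom K L hKL (k : K) = 1
    rw [← map_one (conjHom K L hKL), conjHom_eq_iff]
    intro y hy
    rw [OneMemClass.coe_one, one_mul, inv_one, mul_one]
    set F : Subgroup G := ⨅ x ∈ O, stabilizer G x with hF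
    have hFn : ∀ a ∈ L, ∀ z ∈ F, a * z * a⁻¹ ∈ F := by
      intro a ha z hz
      simp only [hF, Subgroup.mem_iInf, mem_stabilizer_iff] at hz ⊢
      intro x hx
      have hx' : a⁻¹ • x ∈ O := by
        have := MulAction.smul_orbit (⟨a⁻¹, inv_mem ha⟩ : L) α
        rw [← hO] at this
        rw [← this]
        exact Set.smul_mem_smul_set hx
      rw [mul_smul, mul_smul, hz _ hx', smul_inv_smul]
    have hLF : L ⊓ F = ⊥ := by
      refine (hLf.eq_bot_or_eq_of_conj_mem hFn).resolve_right fun hle => ?_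
      have h5 := five_le_orbit hLf α
      have : orbit L α = {α} := by
        refine Set.eq_singleton_iff_unique_mem.2 ⟨mem_orbit_self α, ?_⟩
        rintro _ ⟨⟨y, hy⟩, rfl⟩
        have := hle hy
        simp only [hF, Subgroup.mem_iInf, mem_stabilizer_iff] at this
        exact this α (mem_orbit_self α)
      rw [this, Set.ncard_singleton] at h5
      omega
    have hz : (k : K).1 * y * (k : K).1⁻¹ * y⁻¹ ∈ L ⊓ F := by
      refine Subgroup.mem_inf.2 ⟨mul_mem (hKL _ (k : K).2 y hy) (inv_mem hy), ?_⟩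
      simp only [hF, Subgroup.mem_iInf, mem_stabilizer_iff]
      intro x hx
      have hx' : y⁻¹ • x ∈ O := by
        have := MulAction.smul_orbit (⟨y⁻¹, inv_mem hy⟩ : L) α
        rw [← hO] at this
        rw [← this]
        exact Set.smul_mem_smul_set hx
      rw [mul_smul, mul_smul, mul_smul, inv_smul_eq_iff.2 (hfix _ hx').symm, smul_inv_smul, hfix x hx]
    rw [hLF, Subgroup.mem_bot, mul_inv_eq_one] at hz
    exact hz
  have hsurj : Function.Surjective ψ := by
    rintro ⟨_, k, rfl⟩
    obtain ⟨m, hm, a, ha, hk⟩ := h.exists_eq_mul_stabilizer (k : G) α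
    have haK : a ∈ K := by
      rw [show a = m⁻¹ * k by rw [hk, inv_mul_cancel_left]]
      exact mul_mem (inv_mem (le_ker_factorHom h hm)) k.2
    have hc : IsSocleFactor.comp L m ∈ L := IsSocleFactor.comp_mem L m
    refine ⟨⟨⟨IsSocleFactor.comp L m, hLK hc⟩ * ⟨a, haK⟩,
      mul_mem (Subgroup.mem_sup_left (by rw [Subgroup.mem_subgroupOf]; exact hc))
        (Subgroup.mem_sup_right (by exact ha))⟩, Subtype.ext (conjHom_eq_iff.2 fun y hy => ?_)⟩
    show IsSocleFactor.comp L m * a * y * (IsSocleFactor.comp L m * a)⁻¹ = (k : G) * y * (k : G)⁻¹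
    rw [hk, mul_inv_rev, mul_inv_rev,
      show IsSocleFactor.comp L m * a * y * (a⁻¹ * (IsSocleFactor.comp L m)⁻¹) =
        IsSocleFactor.comp L m * (a * y * a⁻¹) * (IsSocleFactor.comp L m)⁻¹ by simp only [mul_assoc],
      ← hLf.comp_smul (hKL a haK y hy) hm]
    simp only [mul_assoc]
  exact (hf.of_equiv (QuotientGroup.quotientKerEquivRange f).symm).of_surjective
    (QuotientGroup.lift f.ker ψ hker) (QuotientGroup.lift_surjective_of_surjective _ _ hsurj _)

/-- A primitive group. -/
theorem lenLE_primitive [Nontrivial X] (ih : BoundBelow.{v} n) (hn : Nat.card X = n) :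
    LenLE G (4 * (n - 1)) := by
  classical
  haveI : Nontrivial G := by
    obtain ⟨x, y, hxy⟩ := exists_pair_ne X
    obtain ⟨g, hg⟩ := exists_smul_eq G x y
    exact nontrivial_of_ne g 1 fun h1 => hxy (by rw [← hg, h1, one_smul])
  obtain ⟨N, hN⟩ := exists_isMinimalNormal (G := G)
  haveI := hN.normal
  by_cases hs : Group.IsSolvable N
  · rw [← hn]
    exact lenLE_affine hN.ne_bot (hN.isMulCommutative hs)
  obtain ⟨T, h⟩ := exists_isSocleFactor hN hs
  by_cases h1 : ∀ L ∈ factors T, L = T
  · exact lenLE_simple_socle ih hn h (le_antisymm h.le (by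
      rw [← h.iSup_conj_eq]
      exact iSup_le fun g => (h1 _ ⟨g, rfl⟩).le))
  push Not at h1
  obtain ⟨L₀, hL₀, hL₀T⟩ := h1
  haveI : Finite (factors T) := inferInstance
  haveI := Fintype.ofFinite (factors T)
  set 𝒯 := (factors T).toFinset with h𝒯
  set m := Nat.card (factors T) with hm
  have hm' : 𝒯.card = m := by rw [hm, Nat.card_eq_fintype_card, h𝒯, Set.toFinset_card]
  have hm2 : 2 ≤ m := by
    rw [← hm']
    exact Finset.one_lt_card.2 ⟨L₀, by simp [h𝒯, hL₀], T, by simp [h𝒯, mem_factors_self T], hL₀T⟩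
  obtain ⟨α⟩ : Nonempty X := inferInstance
  obtain ⟨s, hTs, hsf, htr, hgrow⟩ := exists_transitive_set h α
  rw [hn] at hgrow
  have hss : s ⊆ 𝒯 := fun L hL => by simpa [h𝒯] using hsf L hL
  have hpow := pow_card_le h α (r := 𝒯 \ s) hsf (fun L hL => by simpa [h𝒯] using (Finset.mem_sdiff.1 hL).1)
    (fun L hL => (Finset.mem_sdiff.1 hL).2) htr
  rw [Finset.card_sdiff_of_subset hss, hm', hn] at hpow
  set d := (orbit T α).ncard with hd
  have hd5 : 5 ≤ d := five_le_orbit h α
  have hdt : d ≤ Nat.card T := by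
    rw [hd, ← Nat.card_coe_set_eq]
    exact Nat.card_le_card_of_surjective (fun t : T => (⟨t • α, mem_orbit α t⟩ : orbit T α))
      (by rintro ⟨_, t, rfl⟩; exact ⟨t, rfl⟩)
  have hdn : d ≤ n := by
    rw [← hn, ← Set.ncard_univ]
    exact Set.ncard_le_ncard (Set.subset_univ _) (Set.toFinite _)
  have hs1 : 1 ≤ s.card := Finset.card_pos.2 ⟨T, hTs⟩
  have hsm : s.card ≤ m := hm' ▸ Finset.card_le_card hss
  rcases Nat.lt_or_ge d n with hdlt | hdge
  swap
  · -- a transitive factor
    have hj : s.card = 1 := by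
      by_contra hj
      have : 5 ^ 1 ≤ 5 ^ (s.card - 1) := Nat.pow_le_pow_right (by norm_num) (by omega)
      nlinarith
    have hs' : s = {T} := by
      obtain ⟨x, hx⟩ := Finset.card_eq_one.1 hj
      rw [hx, Finset.mem_singleton] at hTs
      rw [hx, hTs]
    have htrT : orbit T α = Set.univ := by
      rw [hs'] at htr
      rwa [show (⨆ L ∈ ({T} : Finset (Subgroup G)), L) = T by simp] at htr
    rw [hj] at hpow
    have hm1 : m = 2 := by
      by_contra hne
      have h2 : Nat.card T ^ 2 ≤ Nat.card T ^ (m - 1) := Nat.pow_le_pow_right (by omega) (by omega)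
      have : Nat.card T * 5 ≤ Nat.card T ^ 2 := by rw [pow_two]; exact Nat.mul_le_mul_left _ (by omega)
      omega
    rw [hm1, show 2 - 1 = 1 from rfl, pow_one] at hpow
    exact lenLE_two_regular ih hn h hm1 (by omega) α htrT
  have hj2 : 2 ≤ s.card := by
    by_contra hj
    obtain ⟨x, hx⟩ := Finset.card_eq_one.1 (show s.card = 1 by omega)
    rw [hx, Finset.mem_singleton] at hTs
    rw [hx, ← hTs, show (⨆ L ∈ ({T} : Finset (Subgroup G)), L) = T by simp] at htr
    rw [htr, Set.ncard_univ, hn] at hd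
    omega
  have hbound := factor_bound hd5 hdt hj2 hsm hgrow hpow
  have hn25 : 25 ≤ n := by
    have : 5 ^ 1 ≤ 5 ^ (s.card - 1) := Nat.pow_le_pow_right (by norm_num) (by omega)
    nlinarith
  have hmn : m < n := by nlinarith
  haveI : Nonempty (factors T) := ⟨⟨T, mem_factors_self T⟩⟩
  have hrange := lenLE_range_one ih (hm ▸ hmn) (factorHom T)
  set K := (factorHom T).ker with hK
  let B : (L : factors T) → K →* MulAut ↥(L : Subgroup G) := fun L => conjHom K (L : Subgroup G) fun k hk x hx =>
    mem_ker_factorHom hk L.2 hx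
  have hb : ∀ L ∈ (Finset.univ : Finset (factors T)), LenLE (B L).range (4 * (d - 1)) := fun L _ =>
    lenLE_conj_range ih h α hdlt L.2 _
  set C : Subgroup K := ⨅ L ∈ (Finset.univ : Finset (factors T)), (B L).rangeRestrict.ker with hC
  have hCn : Nat.card C ≤ n := by
    rw [← hn]
    haveI := h.isPretransitive (Ω := X)
    have hcent : ∀ c : C, ((c : K) : G) ∈ Subgroup.centralizer (N : Set G) := by
      intro c
      have hc := c.2
      simp only [hC, Subgroup.mem_iInf, Finset.mem_univ, true_implies, MonoidHom.ker_rangeRestrict] at hc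
      have key : N ≤ Subgroup.centralizer ({((c : K) : G)} : Set G) := by
        rw [← h.iSup_conj_eq]
        refine iSup_le fun g x hx => ?_
        have hx' := congrArg Subtype.val
          (DFunLike.congr_fun (MonoidHom.mem_ker.1 (hc ⟨conjSub g T, g, rfl⟩)) (⟨x, hx⟩ : conjSub g T))
        change ((c : K) : G) * x * ((c : K) : G)⁻¹ = x at hx'
        rw [Subgroup.mem_centralizer_singleton_iff]
        exact (mul_inv_eq_iff_eq_mul.1 hx').symm
      rw [Subgroup.mem_centralizer_iff]
      exact fun x hx => Subgroup.mem_centralizer_singleton_iff.1 (key hx)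
    refine Nat.card_le_card_of_injective (fun c : C => ((c : K) : G) • α) fun c c' hcc => ?_
    refine inv_mul_eq_one.1 (Subtype.ext (Subtype.ext ?_))
    refine eq_one_of_mem_centralizer (V := N) (a := α) (hcent (c⁻¹ * c')) ?_
    change (((c : K) : G)⁻¹ * ((c' : K) : G)) • α = α
    rw [mul_smul, inv_smul_eq_iff]
    exact hcc.symm
  have hKb : LenLE K (3 * ArithmeticFunction.cardFactors (Nat.card C) +
      ∑ _L : factors T, 4 * (d - 1)) :=
    LenLE.of_family Finset.univ (fun L => (B L).rangeRestrict) (fun L => MonoidHom.rangeRestrict_surjective _)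
      hb lenLE_cardFactors
  refine (LenLE.add_hom (factorHom T) hKb hrange).mono ?_
  rw [Finset.sum_const, Finset.card_univ, ← Nat.card_eq_fintype_card, ← hm, smul_eq_mul]
  have h6 := six_cardFactors_le hn25 Nat.card_pos.ne' hCn
  have h8 : m * (4 * (d - 1)) + 4 * (m - 1) + 4 ≤ 4 * (m * d) := by
    obtain ⟨d', hd'⟩ : ∃ d', d = d' + 1 := ⟨d - 1, by omega⟩
    obtain ⟨m', hm''⟩ : ∃ m', m = m' + 1 := ⟨m - 1, by omega⟩
    rw [hm'', hd']
    simp only [Nat.add_sub_cancel]
    ring_nf
    omega
  omega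

theorem boundBelow (n : ℕ) : BoundBelow.{v} n := by
  induction n with
  | zero => exact fun X _ P h => absurd h (Nat.not_lt_zero _)
  | succ n ih =>
    intro X _ P hX
    rcases Nat.lt_or_ge (Nat.card X) n with hlt | hge
    · exact ih X P hlt
    have hn : Nat.card X = n := by omega
    haveI : Finite (Equiv.Perm X) := inferInstance
    rcases subsingleton_or_nontrivial X with hs | hs
    · haveI : Subsingleton P := ⟨fun a b => Subtype.ext (Equiv.ext fun x => Subsingleton.elim _ _)⟩
      exact lenLE_of_subsingleton.mono (Nat.zero_le _)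
    by_cases hr : 2 ≤ Nat.card (orbitRel.Quotient P X)
    · rw [hn]
      exact lenLE_many_orbits ih hn (fun x => (Quotient.mk (orbitRel P X) x))
        (fun q => Quotient.exists_rep q) (fun g x => Quotient.sound (MulAction.mem_orbit x g)) hr
    have hq : 0 < Nat.card (orbitRel.Quotient P X) :=
      Nat.card_pos_iff.2 ⟨⟨Quotient.mk (orbitRel P X) (Classical.arbitrary X)⟩, inferInstance⟩
    have hq1 : Nat.card (orbitRel.Quotient P X) = 1 := by omega
    haveI hsub : Subsingleton (orbitRel.Quotient P X) := (Nat.card_eq_one_iff_unique.1 hq1).1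
    haveI : IsPretransitive P X := ⟨fun x y => by
      obtain ⟨g, hg⟩ : y ∈ orbit P x := Quotient.exact
        (Subsingleton.elim (Quotient.mk (orbitRel P X) y) (Quotient.mk (orbitRel P X) x))
      exact ⟨g, hg⟩⟩
    rw [hn, hq1]
    by_cases hp : IsPreprimitive P X
    · exact lenLE_primitive ih hn
    · exact lenLE_imprimitive ih hn hp

/-- Composition length of a permutation group. -/
theorem lenLE_perm {G : Type u} [Group G] {X : Type v} [Finite X] [MulAction G X] [FaithfulSMul G X] :
    LenLE G (4 * (Nat.card X - Nat.card (orbitRel.Quotient G X))) := by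
  have hinj : Function.Injective (toPermHom G X) := MulAction.toPerm_injective
  refine ((boundBelow (Nat.card X + 1) X (toPermHom G X).range (Nat.lt_succ_self _)).mono ?_).of_equiv
    (MonoidHom.ofInjective hinj).symm
  refine Nat.mul_le_mul_left 4 (Nat.sub_le_sub_left ?_ _)
  refine card_le_card_quotient (fun x => Quotient.mk (orbitRel G X) x) (fun q => Quotient.exists_rep q) ?_
  rintro ⟨_, g, rfl⟩ x
  exact Quotient.sound (MulAction.mem_orbit x g)

end CfsgLib.CompLength
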